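import Groth.Agent.S1464
import Groth.Agent.SGA3x.K197.RatNodes2
import Mathlib.RingTheory.KrullDimension.Basic

/-!
# Dimension of algebras of finite type and field extensions
-/

set_option autoImplicit false
universe u
open TensorProduct

namespace K844.RatN14

theorem dim_tensor (k Ω B : Type u) [Field k] [Field Ω] [Algebra k Ω] [CommRing B] [Algebra k B]
    [Algebra.FiniteType k B] : ringKrullDim (Ω ⊗[k] B) = ringKrullDim B := by
  rcases subsingleton_or_nontrivial B with hB | hB
  · have : Subsingleton (Ω ⊗[k] B) := inferInstance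
    rw [ringKrullDim_eq_bot_of_subsingleton, ringKrullDim_eq_bot_of_subsingleton]
  have : Nontrivial (FractionRing k ⊗[k] B) := inferInstance
  obtain ⟨g, hg, h⟩ := Groth.Agent.Flat2G.FibDim.exists_ringKrullDim_fibre_eq k B
  have h1 := h Ω (by rw [Ne, map_eq_zero_iff _ (algebraMap k Ω).injective]; exact hg)
  have h2 := h k hg
  rw [h1, ← h2]
  exact ringKrullDim_eq_of_ringEquiv (Algebra.TensorProduct.lid k B).toRingEquiv

theorem dim_le_of_surjective {k K' Ω C B : Type u} [Field k] [Field K'] [Field Ω] [Algebra k Ω] [Algebra K' Ω]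
    [CommRing C] [Algebra k C] [Algebra.FiniteType k C] [CommRing B] [Algebra K' B] [Algebra.FiniteType K' B]
    (f : Ω ⊗[K'] B →+* Ω ⊗[k] C) (hf : Function.Surjective f) : ringKrullDim C ≤ ringKrullDim B := by
  rw [← dim_tensor k Ω C, ← dim_tensor K' Ω B]
  exact ringKrullDim_le_of_surjective f hf

/-- comparison of dimensions over different fields -/
theorem main : K197.Rat.N14_dim.{u} := by
  intro k K' Ω _ _ _ _ _ C _ _ _ B _ _ _ b hb hb'
  have hsc : SMulCommClass k K' Ω := ⟨fun x y z => by
    rw [Algebra.smul_def, Algebra.smul_def, Algebra.smul_def, Algebra.smul_def]; ring⟩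
  let b' : B →ₐ[K'] TensorProduct k Ω C := { b with commutes' := fun r => RingHom.congr_fun hb r }
  let f : Ω ⊗[K'] B →ₐ[Ω] TensorProduct k Ω C :=
    Algebra.TensorProduct.lift (Algebra.ofId Ω (TensorProduct k Ω C)) b' (fun _ _ => Commute.all _ _)
  have hf : ∀ x : B, f (1 ⊗ₜ x) = b x := by
    intro x
    rw [Algebra.TensorProduct.lift_tmul, map_one, one_mul]
    rfl
  have hsurj : Function.Surjective f := by
    rw [← AlgHom.range_eq_top, ← top_le_iff, ← SetLike.coe_subset_coe]
    have h1 : Submodule.span Ω (Set.range b) ≤ Subalgebra.toSubmodule f.range := by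
      rw [Submodule.span_le]
      rintro _ ⟨x, rfl⟩
      exact ⟨1 ⊗ₜ x, hf x⟩
    rw [hb'] at h1
    exact fun y _ => h1 (Submodule.mem_top : y ∈ (⊤ : Submodule Ω _))
  exact dim_le_of_surjective f.toRingHom hsurj

end K844.RatN14
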