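import Groth.Agent.SGA3x.K18.TorDesc
import Groth.Agent.SGA3x.K14.TorGenField

/-!
# Field extensions: torsion subgroups and dense families

* `exists_descent`: being the `n`-torsion subgroup can be tested after a field extension;
* `dense_bc`: a dense increasing family of affine schemes `M k ⟶ E` over a field stays dense after a field extension.
-/

set_option autoImplicit false
universe u

open CategoryTheory CategoryTheory.Limits AlgebraicGeometry MonObj MonoidalCategory CartesianMonoidalCategory
open scoped TensorProduct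

namespace K844.GenDesc

open Groth.Agent.Books.AffBridge Groth.Agent.Sga3B.AffPts K217.QPatchGeo K14.TorGenField
  Groth.Agent.Sga3B.AffDvrHopf789

section desc

variable {κ K : Type u} [Field κ] [Field K] [Algebra κ K]

instance : Surjective (Spec.map (CommRingCat.ofHom (algebraMap κ K))) := by
  have h : Subsingleton (PrimeSpectrum κ) := inferInstance
  exact ⟨fun y => ⟨Classical.arbitrary (PrimeSpectrum K), h.elim _ _⟩⟩

/-- Being the kernel of `n` can be tested after a field extension. -/
theorem exists_descent {E : Over (Spec (CommRingCat.of κ))} [GrpObj E] {M : Over (Spec (CommRingCat.of κ))} [GrpObj M]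
    (c : M ⟶ E) [IsMonHom c] [Mono c] (n : ℕ)
    (h : AlgGrp.IsKernel ((Over.pullback (Spec.map (CommRingCat.ofHom (algebraMap κ K)))).map c)
      ((𝟙 (Red.bc (Spec.map (CommRingCat.ofHom (algebraMap κ K))) E) : _ ⟶ _) ^ n)) :
    AlgGrp.IsKernel c ((𝟙 E : E ⟶ E) ^ n) := by
  have hf : Flat (Spec.map (CommRingCat.ofHom (algebraMap κ K))) := by
    rw [HasRingHomProperty.Spec_iff (P := @Flat)]
    change (algebraMap κ K).Flat
    rw [RingHom.flat_algebraMap_iff]
    infer_instance
  exact K18.TorTors.isKernel_of_isTors (K18.TorDesc.isTors_of_bc (Spec.map (CommRingCat.ofHom (algebraMap κ K))) c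
    (K18.TorTors.isTors_of_isKernel inferInstance h))

end desc

section alg

variable {κ : Type u} [Field κ] {B : Type u} [CommRing B] [Algebra κ B] {A : ℕ → Type u} [∀ k, CommRing (A k)]
  [∀ k, Algebra κ (A k)]

/-- A jointly injective decreasing family stays jointly injective after `- ⊗ K`. -/
theorem rTensor_injective (K : Type u) [CommRing K] [Algebra κ K] (ε : ∀ k, B →ₐ[κ] A k)
    (hmono : ∀ j k, j ≤ k → ∀ b, ε k b = 0 → ε j b = 0) (hε : ∀ b, (∀ k, ε k b = 0) → b = 0) (x : B ⊗[κ] K)
    (hx : ∀ k, Algebra.TensorProduct.map (ε k) (AlgHom.id κ K) x = 0) : x = 0 := by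
  obtain ⟨W, W', hW, hW', hx'⟩ := TensorProduct.exists_finite_submodule_of_setFinite {x} (Set.finite_singleton x)
  have hU : FiniteDimensional κ W := hW
  obtain ⟨k, hk⟩ := exists_injOn ε hmono hε W
  obtain ⟨y, hy⟩ := hx' (Set.mem_singleton x)
  let z : W ⊗[κ] K := TensorProduct.map LinearMap.id W'.subtype y
  have hz : TensorProduct.map W.subtype LinearMap.id z = x := by
    rw [← hy]
    change (TensorProduct.map W.subtype LinearMap.id ∘ₗ TensorProduct.map LinearMap.id W'.subtype) y = _
    rw [← TensorProduct.map_comp]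
    rfl
  let f : W →ₗ[κ] A k := (ε k).toLinearMap.comp W.subtype
  have hf : Function.Injective f := by
    rw [injective_iff_map_eq_zero]
    intro u hu
    exact Subtype.ext (hk u.1 u.2 hu)
  have h1 : TensorProduct.map f (LinearMap.id : K →ₗ[κ] K) z = 0 := by
    have h2 : TensorProduct.map f (LinearMap.id : K →ₗ[κ] K) =
        (TensorProduct.map (ε k).toLinearMap (LinearMap.id : K →ₗ[κ] K)).comp
        (TensorProduct.map W.subtype (LinearMap.id : K →ₗ[κ] K)) := by
      rw [← TensorProduct.map_comp]
      rfl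
    rw [h2, LinearMap.comp_apply, hz]
    exact hx k
  have h3 : Function.Injective (TensorProduct.map f (LinearMap.id : K →ₗ[κ] K)) :=
    TensorProduct.map_injective_of_flat_flat f _ hf Function.injective_id
  have h4 : z = 0 := h3 (h1.trans (map_zero _).symm)
  rw [← hz, h4, map_zero]

end alg

section geom

variable {κ K : Type u} [Field κ] [Field K] [Algebra κ K] {E : Over (Spec (CommRingCat.of κ))}

lemma isPullback_tensor {B : Type u} [CommRing B] [Algebra κ B] (e : E ≅ SpecOver κ B) :
    IsPullback (Spec.map (CommRingCat.ofHom (Algebra.TensorProduct.includeLeft : B →ₐ[κ] B ⊗[κ] K).toRingHom) ≫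
        e.inv.left)
      (Spec.map (CommRingCat.ofHom (Algebra.TensorProduct.includeRight : K →ₐ[κ] B ⊗[κ] K).toRingHom))
      E.hom (Spec.map (CommRingCat.ofHom (algebraMap κ K))) := by
  have h0 : IsPullback (Spec.map (CommRingCat.ofHom (Algebra.TensorProduct.includeLeft : B →ₐ[κ] B ⊗[κ] K).toRingHom))
      (Spec.map (CommRingCat.ofHom (Algebra.TensorProduct.includeRight : K →ₐ[κ] B ⊗[κ] K).toRingHom))
      (Spec.map (CommRingCat.ofHom (algebraMap κ B))) (Spec.map (CommRingCat.ofHom (algebraMap κ K))) :=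
    isPullback_SpecMap_of_isPushout _ _ _ _ (CommRingCat.isPushout_tensorProduct κ B K)
  have hiso : IsIso e.inv.left := inferInstanceAs (IsIso ((Over.forget _).map e.inv))
  have h1 : IsPullback e.inv.left (Spec.map (CommRingCat.ofHom (algebraMap κ B))) E.hom (𝟙 _) :=
    IsPullback.of_horiz_isIso ⟨by rw [Category.comp_id]; exact Over.w e.inv⟩
  have h3 := h0.paste_horiz h1
  rwa [Category.comp_id] at h3

/-- The product with `Spec K`. -/
noncomputable def th {B : Type u} [CommRing B] [Algebra κ B] (e : E ≅ SpecOver κ B) :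
    Spec (CommRingCat.of (B ⊗[κ] K)) ⟶ (Red.bc (Spec.map (CommRingCat.ofHom (algebraMap κ K))) E).left :=
  pullback.lift _ _ (isPullback_tensor (K := K) e).w

instance {B : Type u} [CommRing B] [Algebra κ B] (e : E ≅ SpecOver κ B) : IsIso (th (K := K) e) := by
  have h : th (K := K) e = (isPullback_tensor (K := K) e).isoPullback.hom := by
    apply pullback.hom_ext
    · rw [th, pullback.lift_fst, IsPullback.isoPullback_hom_fst]
    · rw [th, pullback.lift_snd, IsPullback.isoPullback_hom_snd]
  rw [h]
  infer_instance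

lemma th_naturality {M : Over (Spec (CommRingCat.of κ))} (c : M ⟶ E) {B A : Type u} [CommRing B] [Algebra κ B]
    [CommRing A] [Algebra κ A] (e : E ≅ SpecOver κ B) (a : M ≅ SpecOver κ A) (ε : B →ₐ[κ] A)
    (hε : specMap κ ε = a.inv ≫ c ≫ e.hom) :
    Spec.map (CommRingCat.ofHom (Algebra.TensorProduct.map ε (AlgHom.id κ K)).toRingHom) ≫ th (K := K) e =
      th (K := K) a ≫ ((Over.pullback (Spec.map (CommRingCat.ofHom (algebraMap κ K)))).map c).left := by
  have h1 : a.inv.left ≫ c.left = Spec.map (CommRingCat.ofHom ε.toRingHom) ≫ e.inv.left := by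
    have h3 : a.inv ≫ c = specMap κ ε ≫ e.inv := by rw [hε]; simp
    exact congrArg CommaMorphism.left h3
  apply pullback.hom_ext
  · have h2 : ((Over.pullback (Spec.map (CommRingCat.ofHom (algebraMap κ K)))).map c).left ≫ pullback.fst E.hom _ =
        pullback.fst M.hom _ ≫ c.left := K18.Raw.map_left_fst _
    have h3 : th (K := K) a ≫ pullback.fst M.hom _ = _ := pullback.lift_fst _ _ (isPullback_tensor (K := K) a).w
    have h4 : th (K := K) e ≫ pullback.fst E.hom _ = _ := pullback.lift_fst _ _ (isPullback_tensor (K := K) e).w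
    refine (Category.assoc _ _ _).trans ((congrArg (fun t => _ ≫ t) h4).trans ?_)
    refine Eq.trans ?_ (((Category.assoc _ _ _).trans ((congrArg (fun t => th (K := K) a ≫ t) h2).trans
      ((Category.assoc _ _ _).symm.trans (congrArg (fun t => t ≫ c.left) h3)))).symm)
    refine Eq.trans ?_ (Category.assoc _ _ _).symm
    refine Eq.trans ?_ (congrArg (fun t => _ ≫ t) h1).symm
    have h5 : Spec.map (CommRingCat.ofHom (Algebra.TensorProduct.map ε (AlgHom.id κ K)).toRingHom) ≫
        Spec.map (CommRingCat.ofHom (Algebra.TensorProduct.includeLeft : B →ₐ[κ] B ⊗[κ] K).toRingHom) =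
        Spec.map (CommRingCat.ofHom (Algebra.TensorProduct.includeLeft : A →ₐ[κ] A ⊗[κ] K).toRingHom) ≫
        Spec.map (CommRingCat.ofHom ε.toRingHom) := by
      rw [← Spec.map_comp, ← Spec.map_comp, ← CommRingCat.ofHom_comp, ← CommRingCat.ofHom_comp]
      congr 2
    exact (Category.assoc _ _ _).symm.trans ((congrArg (fun t => t ≫ e.inv.left) h5).trans (Category.assoc _ _ _))
  · have h2 : ((Over.pullback (Spec.map (CommRingCat.ofHom (algebraMap κ K)))).map c).left ≫ pullback.snd E.hom _ =
        pullback.snd M.hom _ := Over.w ((Over.pullback (Spec.map (CommRingCat.ofHom (algebraMap κ K)))).map c)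
    have h3 : th (K := K) a ≫ pullback.snd M.hom _ = _ := pullback.lift_snd _ _ (isPullback_tensor (K := K) a).w
    have h4 : th (K := K) e ≫ pullback.snd E.hom _ = _ := pullback.lift_snd _ _ (isPullback_tensor (K := K) e).w
    refine (Category.assoc _ _ _).trans ((congrArg (fun t => _ ≫ t) h4).trans ?_)
    refine Eq.trans ?_ (((Category.assoc _ _ _).trans ((congrArg (fun t => th (K := K) a ≫ t) h2).trans h3)).symm)
    rw [← Spec.map_comp, ← CommRingCat.ofHom_comp]
    congr 2
    ext b
    simp

end geom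

/-- **Dense families of affine schemes stay dense after a field extension.** -/
theorem dense_bc {κ K : Type u} [Field κ] [Field K] [Algebra κ K] {E : Over (Spec (CommRingCat.of κ))} [IsAffine E.left]
    {M : ℕ → Over (Spec (CommRingCat.of κ))} [∀ k, IsAffine (M k).left] (c : ∀ k, M k ⟶ E)
    (hinc : ∀ j k, j ≤ k → ∃ f : M j ⟶ M k, f ≫ c k = c j)
    (hc : ∀ b : Γ(E.left, ⊤), (∀ k, (c k).left.appTop.hom b = 0) → b = 0)
    (b : Γ((Red.bc (Spec.map (CommRingCat.ofHom (algebraMap κ K))) E).left, ⊤))
    (hb : ∀ k, ((Over.pullback (Spec.map (CommRingCat.ofHom (algebraMap κ K)))).map (c k)).left.appTop.hom b = 0) :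
    b = 0 := by
  obtain ⟨B, _, _, ⟨e⟩⟩ := Groth.Agent.Sga3B.RG.BrDiag.exists_specOver E
  have hM : ∀ k, ∃ (A : Type u) (_ : CommRing A) (_ : Algebra κ A), Nonempty (M k ≅ SpecOver κ A) := fun k =>
    Groth.Agent.Sga3B.RG.BrDiag.exists_specOver (M k)
  choose A _ _ hA using hM
  let a : ∀ k, M k ≅ SpecOver κ (A k) := fun k => (hA k).some
  let ε : ∀ k, B →ₐ[κ] A k := fun k => specPreimage κ ((a k).inv ≫ c k ≫ e.hom)
  have hεs : ∀ k, specMap κ (ε k) = (a k).inv ≫ c k ≫ e.hom := fun k => specMap_specPreimage κ _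
  have hmono : ∀ j k, j ≤ k → ∀ b, ε k b = 0 → ε j b = 0 := by
    intro j k h b hb
    obtain ⟨f, hf⟩ := hinc j k h
    have h1 : ε j = (specPreimage κ ((a j).inv ≫ f ≫ (a k).hom)).comp (ε k) := by
      apply specMap_injective κ
      rw [specMap_comp, hεs, hεs, specMap_specPreimage]
      simp only [Category.assoc, Iso.hom_inv_id_assoc]
      rw [reassoc_of% hf]
    rw [h1, AlgHom.comp_apply, hb, map_zero]
  have hε : ∀ b, (∀ k, ε k b = 0) → b = 0 := by
    intro b hb
    let eL : Spec (CommRingCat.of B) ⟶ E.left := e.inv.left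
    have hiso : IsIso eL := inferInstanceAs (IsIso ((Over.forget _).map e.inv))
    obtain ⟨s, rfl⟩ := (ev_bijective eL hiso).2 b
    have h1 : s = 0 := by
      refine hc s fun k => ?_
      let aL : Spec (CommRingCat.of (A k)) ⟶ (M k).left := (a k).inv.left
      have hiso' : IsIso aL := inferInstanceAs (IsIso ((Over.forget _).map (a k).inv))
      apply (ev_bijective aL hiso').1
      rw [map_zero, ← ev_comp]
      have h2 : aL ≫ (c k).left = Spec.map (CommRingCat.ofHom (ε k).toRingHom) ≫ eL := by
        have h3 : (a k).inv ≫ c k = specMap κ (ε k) ≫ e.inv := by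
          rw [hεs]; simp
        exact congrArg CommaMorphism.left h3
      rw [h2]
      exact (ev_specMap_comp (ε k).toRingHom eL s).trans (hb k)
    rw [h1, map_zero]
  apply (ev_bijective (th (K := K) e) inferInstance).1
  rw [map_zero]
  refine rTensor_injective K ε hmono hε _ fun k => ?_
  have h5 : ev (Spec.map (CommRingCat.ofHom (Algebra.TensorProduct.map (ε k) (AlgHom.id κ K)).toRingHom) ≫
      th (K := K) e) b = 0 := by
    rw [th_naturality (c k) e (a k) (ε k) (hεs k), ev_comp, hb, map_zero]
  rw [ev_specMap_comp] at h5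
  exact h5

end K844.GenDesc
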